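import Cfsg.Agent.Lib.CosetEnum.Cert
import Mathlib

set_option autoImplicit false
set_option linter.all false

/-! Matrices of degree 45 over the field with seven elements, with rows packed into slots of 16 bits. -/

namespace CfsgLib.ONRep

open CfsgLib.CosetEnum (strict strict_eq)

/-- The slot `j` of a packed vector. -/
def slot (j P : ℕ) : ℕ := P / 65536 ^ j % 65536

/-- Reduce every slot modulo seven. -/
def red (k : ℕ) : ℕ → ℕ :=
  Nat.rec (motive := fun _ => ℕ → ℕ) (fun _ => 0)
    (fun _ ih P => strict (P % 65536 % 7) fun a => strict (ih (P / 65536)) fun r => a + 65536 * r) k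

/-- The combination of packed rows with the slots of `v` as coefficients. -/
def lin (rows : List ℕ) : ℕ → ℕ :=
  List.rec (motive := fun _ => ℕ → ℕ) (fun _ => 0)
    (fun r _ ih v => strict (ih (v / 65536)) fun s => v % 65536 * r + s) rows

/-- A packed vector times a packed matrix. -/
def stepv (rows : List ℕ) (v : ℕ) : ℕ := strict (lin rows v) (red 45)

theorem red_succ (k P : ℕ) : red (k + 1) P = P % 65536 % 7 + 65536 * red k (P / 65536) := by
  show strict _ (fun a => strict _ fun r => a + 65536 * r) = _
  rw [strict_eq, strict_eq]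
  rfl

theorem slot_succ (j P : ℕ) : slot (j + 1) P = slot j (P / 65536) := by
  unfold slot
  rw [pow_succ', ← Nat.div_div_eq_div_mul]

theorem red_slot : ∀ (k P j : ℕ), j < k → slot j (red k P) = slot j P % 7 := by
  intro k
  induction k with
  | zero => intros; omega
  | succ k ih =>
    intro P j hj
    rw [red_succ]
    rcases j with _ | j
    · unfold slot
      simp only [pow_zero, Nat.div_one]
      omega
    · rw [slot_succ, slot_succ, ← ih (P / 65536) j (by omega)]
      congr 1
      omega

theorem red_lt : ∀ (k P j : ℕ), slot j (red k P) < 7 := by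
  intro k
  induction k with
  | zero => intro P j; simp [slot, red]
  | succ k ih =>
    intro P j
    rcases j with _ | j
    · rw [red_slot (k + 1) P 0 (by omega)]; omega
    · have h1 : (red (k + 1) P) / 65536 = red k (P / 65536) := by rw [red_succ]; omega
      rw [slot_succ, h1]
      exact ih _ _

theorem lin_cons (r : ℕ) (t : List ℕ) (v : ℕ) : lin (r :: t) v = v % 65536 * r + lin t (v / 65536) := by
  show strict _ (fun s => v % 65536 * r + s) = _
  rw [strict_eq]
  rfl

theorem lin_eq : ∀ (rows : List ℕ) (v : ℕ), lin rows v = ∑ i : Fin rows.length, slot i v * rows[i] := by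
  intro rows
  induction rows with
  | nil => intro v; rfl
  | cons r t ih =>
    intro v
    rw [lin_cons, ih]
    refine Eq.trans ?_ (Fin.sum_univ_succ (n := t.length) fun i => slot i v * (r :: t)[i.val]'i.isLt).symm
    congr 1
    · simp [slot]
    · refine Finset.sum_congr rfl fun i _ => ?_
      simp [slot_succ]

theorem sum_slots : ∀ (n P : ℕ), ∑ j ∈ Finset.range n, slot j P * 65536 ^ j = P % 65536 ^ n := by
  intro n P
  induction n with
  | zero => simp [Nat.mod_one]
  | succ n ih => rw [Finset.sum_range_succ, ih, Nat.mod_pow_succ, slot, mul_comm]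

theorem slot_sum : ∀ (n : ℕ) (c : ℕ → ℕ), (∀ j < n, c j < 65536) → ∀ k < n,
    slot k (∑ j ∈ Finset.range n, c j * 65536 ^ j) = c k := by
  intro n
  induction n with
  | zero => intros; omega
  | succ n ih =>
    intro c hc k hk
    have e : ∑ j ∈ Finset.range (n + 1), c j * 65536 ^ j =
        c 0 + 65536 * ∑ j ∈ Finset.range n, c (j + 1) * 65536 ^ j := by
      rw [Finset.sum_range_succ', Finset.mul_sum, add_comm, pow_zero, mul_one]
      congr 1
      refine Finset.sum_congr rfl fun j _ => ?_
      ring
    rw [e]
    have h0 := hc 0 (by omega)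
    rcases k with _ | k
    · unfold slot
      simp only [pow_zero, Nat.div_one]
      omega
    · rw [slot_succ, ← ih (fun j => c (j + 1)) (fun j hj => hc _ (by omega)) k (by omega)]
      congr 1
      omega

/-- The vector with the given slots. -/
def vec (v : ℕ) : Fin 45 → ZMod 7 := fun j => (slot j v : ZMod 7)

/-- The matrix with the given rows. -/
def mat (rows : List ℕ) : Matrix (Fin 45) (Fin 45) (ZMod 7) := fun i => vec (rows.getD i 0)

/-- A packed matrix with reduced slots. -/
structure Good (rows : List ℕ) : Prop where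
  len : rows.length = 45
  lt : ∀ i : ℕ, rows.getD i 0 < 65536 ^ 45
  small : ∀ i j : ℕ, slot j (rows.getD i 0) < 7

theorem vec_stepv {rows : List ℕ} (h : Good rows) {v : ℕ} (hv : ∀ j, slot j v < 7) :
    vec (stepv rows v) = Matrix.vecMul (vec v) (mat rows) := by
  have hs : stepv rows v = red 45 (lin rows v) := by unfold stepv; rw [strict_eq]
  funext k
  have e : lin rows v = ∑ j ∈ Finset.range 45, (∑ i : Fin 45, slot i v * slot j (rows.getD i 0)) * 65536 ^ j := by
    rw [lin_eq]
    simp only [Finset.sum_mul]
    rw [Finset.sum_comm]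
    refine Fintype.sum_equiv (finCongr h.len) _ _ fun i => ?_
    simp only [finCongr_apply, Fin.val_cast, mul_assoc, ← Finset.mul_sum]
    rw [sum_slots, Nat.mod_eq_of_lt (h.lt _), List.getD_eq_getElem _ _ i.isLt]
    rfl
  have hb : ∀ j < 45, (∑ i : Fin 45, slot i v * slot j (rows.getD i 0)) < 65536 := fun j _ => by
    refine lt_of_le_of_lt (Finset.sum_le_sum (g := fun _ => 49) fun i _ => ?_) (by simp)
    exact Nat.mul_le_mul (hv _).le (h.small _ _).le
  show (slot k (stepv rows v) : ZMod 7) = _
  rw [hs, red_slot 45 _ k k.isLt, ZMod.natCast_mod, e, slot_sum 45 _ hb k k.isLt, Nat.cast_sum]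
  simp only [Matrix.vecMul, dotProduct, mat, vec, Nat.cast_mul]

theorem slot_stepv (rows : List ℕ) (v j : ℕ) : slot j (stepv rows v) < 7 := by
  unfold stepv
  rw [strict_eq]
  exact red_lt _ _ _

/-- Check of one packed row. -/
def rowOK (r : ℕ) : Bool := Nat.beq (red 45 r) r

theorem good_of_check (rows : List ℕ) (hlen : rows.length = 45) (h : rows.all rowOK = true) : Good rows := by
  have key : ∀ i, red 45 (rows.getD i 0) = rows.getD i 0 := by
    intro i
    rcases Nat.lt_or_ge i rows.length with hi | hi
    · rw [List.getD_eq_getElem _ _ hi]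
      exact Nat.eq_of_beq_eq_true (List.all_eq_true.mp h _ (List.getElem_mem hi))
    · rw [List.getD_eq_default _ _ hi]
      rfl
  refine ⟨hlen, fun i => ?_, fun i j => key i ▸ red_lt _ _ _⟩
  rw [← key i]
  exact red_bound _ _
where
  red_bound : ∀ k P, red k P < 65536 ^ k := by
    intro k
    induction k with
    | zero => intro P; exact Nat.one_pos
    | succ k ih =>
      intro P
      have := ih (P / 65536)
      rw [red_succ, pow_succ']
      omega

end CfsgLib.ONRep
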