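import Cfsg.Agent.Lib.ONRep.Defs

set_option autoImplicit false
set_option linter.all false
set_option maxRecDepth 20000

namespace CfsgLib.ONRep

theorem rel18 : ((List.range 9).map fun i => relOK (18 + i)).all (fun b => b) = true := by decide +kernel

end CfsgLib.ONRep
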