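import Cfsg.Agent.Lib.ONRep.Chk0
import Cfsg.Agent.Lib.ONRep.Chk1
import Cfsg.Agent.Lib.ONRep.Chk2
import Cfsg.Agent.Lib.ONRep.Chk3
import Cfsg.Agent.Lib.ONRep.Chk4

/-! All checks of the relators. -/
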