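import Cfsg.Agent.Lib.ONRep.Defs

set_option autoImplicit false
set_option linter.all false
set_option maxRecDepth 20000

namespace CfsgLib.ONRep

theorem rows_ok : mats.all (fun m => Nat.beq m.length 45 && m.all rowOK) = true := by decide +kernel

theorem noncomm : (Nat.beq (slot 0 (appW [1, 2] 1)) 4 && Nat.beq (slot 0 (appW [2, 1] 1)) 2) = true := by decide +kernel

theorem rel0 : ((List.range 9).map fun i => relOK i).all (fun b => b) = true := by decide +kernel

end CfsgLib.ONRep
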