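import Cfsg.Agent.Lib.ONRep.Main

/-!
Centre and quotient of the matrix group; it consists of matrices of determinant one.
-/

set_option autoImplicit false
set_option linter.all false
set_option maxRecDepth 20000

namespace CfsgLib.ONRep

open CfsgLib.CosetEnum

local notation "G" => Cfsg.Spor.ON
local notation "GLm" => (Matrix (Fin 45) (Fin 45) (ZMod 7))ˣ

theorem π_bijective : Function.Bijective π := by
  haveI := ON.Simple.isSimple
  refine ⟨?_, π_surjective⟩
  rcases (inferInstance : π.ker.Normal).eq_bot_or_eq_top with h | h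
  · exact (MonoidHom.ker_eq_bot_iff π).mp h
  · exfalso
    refine quot_nontrivial fun y => ?_
    obtain ⟨x, rfl⟩ := π_surjective y
    exact MonoidHom.mem_ker.mp (h ▸ Subgroup.mem_top x)

/-- The O'Nan group as the quotient. -/
noncomputable def quotEquiv : G ≃* Γ ⧸ N := MulEquiv.ofBijective π π_bijective

theorem quot_simple : IsSimpleGroup (Γ ⧸ N) :=
  (MulEquiv.isSimpleGroup_congr quotEquiv).mp ON.Simple.isSimple

theorem quot_card : Nat.card (Γ ⧸ N) = 460815505920 :=
  (Nat.card_congr quotEquiv.toEquiv).symm.trans ON.card_group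

theorem quot_center : Subgroup.center (Γ ⧸ N) = ⊥ := by
  haveI := quot_simple
  rcases (inferInstance : (Subgroup.center (Γ ⧸ N)).Normal).eq_bot_or_eq_top with h | h
  · exact h
  · exfalso
    haveI : Finite (Γ ⧸ N) := Nat.finite_of_card_ne_zero (by rw [quot_card]; norm_num)
    letI : CommGroup (Γ ⧸ N) := Group.commGroupOfCenterEqTop h
    have := IsSimpleGroup.prime_card (α := Γ ⧸ N)
    rw [quot_card] at this
    norm_num at this

theorem center_eq : Subgroup.center Γ = N := by
  refine le_antisymm (fun u hu => ?_) (Subgroup.zpowers_le.mpr z_central)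
  have : QuotientGroup.mk' N u ∈ Subgroup.center (Γ ⧸ N) := by
    refine Subgroup.mem_center_iff.mpr fun y => ?_
    obtain ⟨v, rfl⟩ := QuotientGroup.mk'_surjective N y
    rw [← map_mul, ← map_mul, Subgroup.mem_center_iff.mp hu v]
  rw [quot_center, Subgroup.mem_bot] at this
  exact (QuotientGroup.eq_one_iff u).mp this

theorem det_subtype {n R : Type} [Fintype n] [DecidableEq n] [CommRing R] (Δ : Subgroup (Matrix n n R)ˣ) (u : Δ) :
    ((((Matrix.GeneralLinearGroup.det : Matrix.GeneralLinearGroup n R →* Rˣ).comp Δ.subtype) u : Rˣ) : R) =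
      Matrix.det ((u : (Matrix n n R)ˣ) : Matrix n n R) := rfl

theorem det_scalar (M : Matrix (Fin 45) (Fin 45) (ZMod 7)) (h : M = (2 : ZMod 7) • 1) : Matrix.det M = 1 := by
  rw [h, Matrix.det_smul, Matrix.det_one, Fintype.card_fin, mul_one,
    show (2 : ZMod 7) ^ 45 = ((2 : ZMod 7) ^ 3) ^ 15 from pow_mul _ 3 15,
    show (2 : ZMod 7) ^ 3 = 1 by decide, one_pow]

theorem card_units_le : Nat.card (ZMod 7)ˣ ≤ 7 := by
  rw [Nat.card_eq_fintype_card]
  exact (Fintype.card_le_of_injective _ Units.val_injective).trans (by simp)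

theorem hom_trivial {A : Type} [CommGroup A] [Finite A] (hA : Nat.card A ≤ 7) (D : G →* A) (x : G) : D x = 1 := by
  haveI := ON.Simple.isSimple
  rcases (inferInstance : D.ker.Normal).eq_bot_or_eq_top with h | h
  · exfalso
    have h1 := Nat.card_le_card_of_injective D ((MonoidHom.ker_eq_bot_iff D).mp h)
    rw [ON.card_group] at h1
    omega
  · exact MonoidHom.mem_ker.mp (h ▸ Subgroup.mem_top x)

/-- A homomorphism to a small commutative group killing the central subgroup is trivial. -/
theorem char_trivial {A : Type} [CommGroup A] [Finite A] (hA : Nat.card A ≤ 7) (d : Γ →* A) (hN : d z = 1) (u : Γ) :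
    d u = 1 := by
  have hle : N ≤ d.ker := Subgroup.zpowers_le.mpr (MonoidHom.mem_ker.mpr hN)
  have h3 := hom_trivial hA ((QuotientGroup.lift N d hle).comp quotEquiv.toMonoidHom)
    (quotEquiv.symm (QuotientGroup.mk' N u))
  simpa using h3

theorem det_one (u : Γ) : Matrix.det ((u : GLm) : Matrix (Fin 45) (Fin 45) (ZMod 7)) = 1 := by
  have hN : (Matrix.GeneralLinearGroup.det : Matrix.GeneralLinearGroup (Fin 45) (ZMod 7) →* (ZMod 7)ˣ).comp Γ.subtype z
      = 1 := Units.ext ((det_subtype Γ z).trans (det_scalar _ z_val))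
  exact (det_subtype Γ u).symm.trans ((congrArg Units.val (char_trivial card_units_le _ hN u)).trans Units.val_one)

theorem exists_sl {n R : Type} [Fintype n] [DecidableEq n] [CommRing R] (Δ : Subgroup (Matrix n n R)ˣ)
    (h : ∀ u : Δ, Matrix.det ((u : (Matrix n n R)ˣ) : Matrix n n R) = 1) :
    ∃ H : Subgroup (Matrix.SpecialLinearGroup n R), Nonempty (H ≃* Δ) := by
  let f := (Matrix.SpecialLinearGroup.toGL : Matrix.SpecialLinearGroup n R →* _).comp
    (Δ.comap (Matrix.SpecialLinearGroup.toGL : Matrix.SpecialLinearGroup n R →* (Matrix n n R)ˣ)).subtype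
  refine ⟨_, ⟨MulEquiv.ofBijective (f.codRestrict Δ fun x => x.2) ⟨fun x y hxy => ?_, fun u => ?_⟩⟩⟩
  · exact Subtype.ext (Subtype.ext (congrArg (fun v : Δ => ((v : (Matrix n n R)ˣ) : Matrix n n R)) hxy))
  · have hu : Matrix.SpecialLinearGroup.toGL (⟨_, h u⟩ : Matrix.SpecialLinearGroup n R) = (u : (Matrix n n R)ˣ) :=
      Units.ext rfl
    exact ⟨⟨⟨_, h u⟩, Subgroup.mem_comap.mpr (by erw [hu]; exact u.2)⟩, Subtype.ext hu⟩

theorem map_center {A B : Type*} [Group A] [Group B] (e : A ≃* B) :
    (Subgroup.center A).map (e : A →* B) = Subgroup.center B := by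
  ext y
  simp only [Subgroup.mem_map, MonoidHom.coe_coe, Subgroup.mem_center_iff]
  constructor
  · rintro ⟨x, hx, rfl⟩ w
    obtain ⟨v, rfl⟩ := e.surjective w
    rw [← map_mul, ← map_mul, hx v]
  · intro hy
    refine ⟨e.symm y, fun v => e.injective ?_, e.apply_symm_apply y⟩
    rw [map_mul, map_mul, e.apply_symm_apply]
    exact hy _

theorem card_center_of {A B : Type*} [Group A] [Group B] (e : A ≃* B) :
    Nat.card (Subgroup.center A) = Nat.card (Subgroup.center B) :=
  Nat.card_congr (Subgroup.centerCongr e).toEquiv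

theorem isON_of {A B : Type} [Group A] [Group B] (e : A ≃* B) (M : Subgroup B) [M.Normal]
    (hM : Subgroup.center B = M) (hs : IsSimpleGroup (B ⧸ M)) (hc : Nat.card (B ⧸ M) = 460815505920) :
    Cfsg.IsON (A ⧸ Subgroup.center A) := by
  have e' : A ⧸ Subgroup.center A ≃* B ⧸ M := QuotientGroup.congr _ _ e ((map_center e).trans hM)
  exact ⟨(MulEquiv.isSimpleGroup_congr e').mpr hs, (Nat.card_congr e'.toEquiv).trans hc⟩

theorem card_center_eq_three {M : Type} [Group M] (Δ : Subgroup M) (w : Δ) (S : Subgroup Δ)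
    (h : Subgroup.center Δ = S) (hS : S = Subgroup.zpowers w) (hw : orderOf w = 3) :
    Nat.card (Subgroup.center Δ) = 3 := by
  rw [h, hS, Nat.card_zpowers, hw]

theorem N_eq : N = Subgroup.zpowers z := rfl

theorem exists_of {n R : Type} [Fintype n] [DecidableEq n] [CommRing R] (Δ : Subgroup (Matrix n n R)ˣ)
    (h : ∀ u : Δ, Matrix.det ((u : (Matrix n n R)ˣ) : Matrix n n R) = 1) (w : Δ) (S : Subgroup Δ) [S.Normal]
    (hc : Subgroup.center Δ = S) (hS : S = Subgroup.zpowers w) (hw : orderOf w = 3)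
    (hs : IsSimpleGroup (Δ ⧸ S)) (hk : Nat.card (Δ ⧸ S) = 460815505920) :
    ∃ H : Subgroup (Matrix.SpecialLinearGroup n R),
      Nat.card (Subgroup.center H) = 3 ∧ Cfsg.IsON (H ⧸ Subgroup.center H) := by
  obtain ⟨H, ⟨e⟩⟩ := exists_sl Δ h
  exact ⟨H, (card_center_of e).trans (card_center_eq_three Δ w S hc hS hw), isON_of e S hc hs hk⟩

/-- The triple cover inside the special linear group. -/
theorem exists_H : ∃ H : Subgroup (Matrix.SpecialLinearGroup (Fin 45) (ZMod 7)),
    Nat.card (Subgroup.center H) = 3 ∧ Cfsg.IsON (H ⧸ Subgroup.center H) :=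
  exists_of (n := Fin 45) (R := ZMod 7) Γ det_one z N center_eq N_eq z_order quot_simple quot_card

end CfsgLib.ONRep
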