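import Cfsg.Agent.Lib.ONRep.Basic
import Cfsg.Agent.Lib.ONRep.Data

set_option autoImplicit false
set_option linter.all false
set_option maxRecDepth 20000

namespace CfsgLib.ONRep

open CfsgLib.CosetEnum (strict strict_eq)

/-- Apply a word of letters to a packed vector. -/
def appW (l : List ℕ) : ℕ → ℕ :=
  List.rec (motive := fun _ => ℕ → ℕ) (fun v => v) (fun x _ ih v => strict (stepv (mats.getD x []) v) ih) l

/-- All relators on one basis vector. -/
def relOK (i : ℕ) : Bool :=
  strict (65536 ^ i) fun e => List.rec (motive := fun _ => Bool) true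
    (fun p _ ih => Bool.rec (motive := fun _ => Bool) false ih (Nat.beq (appW p.1 e) (p.2 * e))) rels

end CfsgLib.ONRep
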