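import Cfsg.Agent.Lib.ONRep.Check
import Cfsg.Agent.Lib.CosetEnum.ON.Pres
import Cfsg.Agent.Lib.CosetEnum.ON.Simple
import Cfsg.Prelude.Def_Sporadic

/-!
The triple cover of the O'Nan group as a group of matrices of degree 45 over the field with seven elements.
-/

set_option autoImplicit false
set_option linter.all false
set_option maxRecDepth 20000

namespace CfsgLib.ONRep

open CfsgLib.CosetEnum

local notation "G" => Cfsg.Spor.ON
local notation "GLm" => (Matrix (Fin 45) (Fin 45) (ZMod 7))ˣ

/-- The matrix of a letter. -/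
def Mx (x : ℕ) : Matrix (Fin 45) (Fin 45) (ZMod 7) := mat (mats.getD x [])

theorem good {x : ℕ} (hx : x < 8) : Good (mats.getD x []) := by
  have hl : mats.length = 8 := rfl
  rw [List.getD_eq_getElem _ _ (by omega : x < mats.length)]
  have h := List.all_eq_true.mp rows_ok _ (List.getElem_mem (by omega : x < mats.length))
  simp only [Bool.and_eq_true] at h
  exact good_of_check _ (Nat.eq_of_beq_eq_true h.1) h.2

theorem appW_cons (x : ℕ) (l : List ℕ) (v : ℕ) : appW (x :: l) v = appW l (stepv (mats.getD x []) v) := by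
  show strict _ (appW l) = _
  rw [strict_eq]

theorem vec_appW : ∀ (l : List ℕ), (∀ x ∈ l, x < 8) → ∀ v : ℕ, (∀ j, slot j v < 7) →
    vec (appW l v) = Matrix.vecMul (vec v) (l.map Mx).prod := by
  intro l
  induction l with
  | nil => intro _ v _; simp [appW]
  | cons x t ih =>
    intro h v hv
    rw [appW_cons, ih (fun y hy => h y (List.mem_cons_of_mem _ hy)) _ (fun j => slot_stepv _ _ j),
      vec_stepv (good (h x (List.mem_cons_self ..))) hv, List.map_cons, List.prod_cons, Matrix.vecMul_vecMul]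
    rfl

theorem slot_basis (c : ℕ) (hc : c < 7) (i : Fin 45) (j : ℕ) :
    slot j (c * 65536 ^ (i : ℕ)) = if j = i then c else 0 := by
  unfold slot
  split
  next h =>
    subst h
    rw [Nat.mul_div_cancel _ (Nat.pow_pos (by norm_num))]
    omega
  next h =>
    rcases Nat.lt_or_ge j i with hlt | hge
    · obtain ⟨d, hd⟩ : ∃ d, (i : ℕ) = j + (d + 1) := ⟨i - j - 1, by omega⟩
      rw [hd, pow_add, pow_succ, show c * (65536 ^ j * (65536 ^ d * 65536)) =
        65536 ^ j * (c * 65536 ^ d * 65536) by ring, Nat.mul_div_cancel_left _ (Nat.pow_pos (by norm_num))]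
      omega
    · obtain ⟨d, hd⟩ : ∃ d, j = (i : ℕ) + (d + 1) := ⟨j - i - 1, by omega⟩
      have hlt : c * 65536 ^ (i : ℕ) < 65536 ^ j := by
        rw [hd, pow_add, mul_comm]
        refine Nat.mul_lt_mul_of_pos_left ?_ (Nat.pow_pos (by norm_num))
        calc c < 65536 := by omega
          _ ≤ 65536 ^ (d + 1) := Nat.le_self_pow (by omega) _
      rw [Nat.div_eq_of_lt hlt, Nat.zero_mod]

theorem all_range {f : ℕ → Bool} {n : ℕ} (h : ((List.range n).map f).all (fun b => b) = true) {k : ℕ}
    (hk : k < n) : f k = true :=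
  List.all_eq_true.mp h _ (List.mem_map.mpr ⟨k, List.mem_range.mpr hk, rfl⟩)

theorem relOK_all (i : ℕ) (hi : i < 45) : relOK i = true := by
  rcases Nat.lt_or_ge i 9 with h | h
  · exact all_range (f := fun k => relOK k) rel0 h
  rcases Nat.lt_or_ge i 18 with h' | h'
  · obtain ⟨k, rfl⟩ := Nat.le.dest h
    exact all_range (f := fun k => relOK (9 + k)) rel9 (k := k) (by omega)
  rcases Nat.lt_or_ge i 27 with h'' | h''
  · obtain ⟨k, rfl⟩ := Nat.le.dest h'
    exact all_range (f := fun k => relOK (18 + k)) rel18 (k := k) (by omega)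
  rcases Nat.lt_or_ge i 36 with h3 | h3
  · obtain ⟨k, rfl⟩ := Nat.le.dest h''
    exact all_range (f := fun k => relOK (27 + k)) rel27 (k := k) (by omega)
  obtain ⟨k, rfl⟩ := Nat.le.dest h3
  exact all_range (f := fun k => relOK (36 + k)) rel36 (k := k) (by omega)

/-- One step of the check of relators. -/
def relStep (e : ℕ) (p : List ℕ × ℕ) : Bool := Nat.beq (appW p.1 e) (p.2 * e)

theorem rec_all (e : ℕ) : ∀ ls : List (List ℕ × ℕ), List.rec (motive := fun _ => Bool) true
    (fun p _ ih => Bool.rec (motive := fun _ => Bool) false ih (relStep e p)) ls = ls.all (relStep e) := by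
  intro ls
  induction ls with
  | nil => rfl
  | cons q t ih =>
    rw [List.all_cons, ← ih]
    cases hq : relStep e q <;> simp [hq]

theorem strict_all (e : ℕ) (ls : List (List ℕ × ℕ)) :
    (strict e fun e => List.rec (motive := fun _ => Bool) true
      (fun p _ ih => Bool.rec (motive := fun _ => Bool) false ih (Nat.beq (appW p.1 e) (p.2 * e))) ls) =
      ls.all (relStep e) := by
  rw [strict_eq]
  exact rec_all e ls

theorem relOK_eq (i : ℕ) : relOK i = rels.all (relStep (65536 ^ i)) := strict_all (65536 ^ i) rels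

theorem rel_ok {p : List ℕ × ℕ} (hp : p ∈ rels) (i : Fin 45) :
    appW p.1 (65536 ^ (i : ℕ)) = p.2 * 65536 ^ (i : ℕ) := by
  have h := relOK_all i i.isLt
  rw [relOK_eq] at h
  exact Nat.eq_of_beq_eq_true (List.all_eq_true.mp h p hp)

theorem prod_eq {p : List ℕ × ℕ} (hp : p ∈ rels) (hl : ∀ x ∈ p.1, x < 8) (hc : p.2 < 7) :
    (p.1.map Mx).prod = (p.2 : ZMod 7) • 1 := by
  funext i j
  have hs : ∀ k, slot k (65536 ^ (i : ℕ)) < 7 := fun k => by
    have := slot_basis 1 (by omega) i k
    rw [one_mul] at this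
    rw [this]; split <;> omega
  have e : vec (65536 ^ (i : ℕ)) = Pi.single i 1 := by
    funext k
    have := slot_basis 1 (by omega) i k
    rw [one_mul] at this
    simp only [vec, this, Pi.single_apply, Fin.val_inj]
    split <;> simp
  have h := congrFun (vec_appW p.1 hl _ hs) j
  rw [rel_ok hp i, e, Matrix.single_one_vecMul] at h
  simp only [Matrix.smul_apply, Matrix.one_apply, smul_eq_mul, mul_ite, mul_one, mul_zero]
  have h' : vec (p.2 * 65536 ^ (i : ℕ)) j = (p.1.map Mx).prod i j := h
  rw [← h']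
  simp only [vec, slot_basis _ hc, Fin.val_inj]
  by_cases hij : i = j
  · subst hij; simp
  · simp [hij, Ne.symm hij]

theorem rels_small : rels.all (fun p => p.1.all (fun x => decide (x < 8)) && decide (p.2 < 7)) = true := by
  decide +kernel

theorem prod_rel {l : List ℕ} {c : ℕ} (hp : (l, c) ∈ rels) : (l.map Mx).prod = (c : ZMod 7) • 1 := by
  have h := List.all_eq_true.mp rels_small _ hp
  simp only [Bool.and_eq_true, List.all_eq_true, decide_eq_true_eq] at h
  exact prod_eq hp h.1 h.2

theorem mul_one_of {x y : ℕ} (h : ([x, y], 1) ∈ rels) : Mx x * Mx y = 1 := by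
  have := prod_rel h
  simpa using this

theorem inv_mem : ∀ x < 8, ([x, if x = 0 then 7 else if x = 7 then 0 else x], 1) ∈ rels ∧
    ([if x = 0 then 7 else if x = 7 then 0 else x, x], 1) ∈ rels := by
  decide +kernel

/-- The matrix of a generator as a unit. -/
def U (a : Cfsg.Spor.ON.Gen) : GLm :=
  ⟨Mx (ON.idx a), Mx (if ON.idx a = 0 then 7 else if ON.idx a = 7 then 0 else ON.idx a),
    mul_one_of (inv_mem _ (by cases a <;> decide)).1, mul_one_of (inv_mem _ (by cases a <;> decide)).2⟩

/-- The substitution of the matrices. -/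
def φ : FreeGroup Cfsg.Spor.ON.Gen →* GLm := FreeGroup.lift U

theorem φ_val : ∀ x < 8, ((φ (ON.gF x) : GLm) : Matrix (Fin 45) (Fin 45) (ZMod 7)) = Mx x := by
  intro x hx
  interval_cases x <;> simp [φ, ON.gF, U, ON.idx]

theorem φ_word {l : List ℕ} {c : ℕ} (hp : (l, c) ∈ rels) :
    (((l.map fun x => φ (ON.gF x)).prod : GLm) : Matrix (Fin 45) (Fin 45) (ZMod 7)) = (c : ZMod 7) • 1 := by
  have h := List.all_eq_true.mp rels_small _ hp
  simp only [Bool.and_eq_true, List.all_eq_true, decide_eq_true_eq] at h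
  rw [← prod_rel hp, ← Units.coeHom_apply, map_list_prod, List.map_map]
  exact congrArg List.prod (List.map_congr_left fun x hx => φ_val x (h.1 x hx))

/-- The group generated by the matrices. -/
abbrev Γ : Subgroup GLm := φ.range

/-- The central word. -/
def zw : List ℕ := [0, 2, 3, 0, 3, 2, 0, 2, 3, 0, 3]

theorem zw_mem : (zw, 2) ∈ rels := by decide +kernel

/-- The central element of order three. -/
def z : Γ := ⟨(zw.map fun x => φ (ON.gF x)).prod,
  Subgroup.list_prod_mem _ fun _ h => by
    obtain ⟨x, _, rfl⟩ := List.mem_map.mp h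
    exact ⟨_, rfl⟩⟩

theorem z_val : (((z : Γ) : GLm) : Matrix (Fin 45) (Fin 45) (ZMod 7)) = (2 : ZMod 7) • 1 := by
  have := φ_word zw_mem
  simpa [z] using this

theorem z_pow (k : ℕ) : ((((z ^ k : Γ) : GLm)) : Matrix (Fin 45) (Fin 45) (ZMod 7)) = (2 : ZMod 7) ^ k • 1 := by
  rw [SubgroupClass.coe_pow, Units.val_pow_eq_pow_val, z_val, smul_pow, one_pow]

theorem z_order : orderOf z = 3 := by
  haveI : Fact (Nat.Prime 3) := ⟨Nat.prime_three⟩
  refine orderOf_eq_prime ?_ ?_
  · apply Subtype.ext
    apply Units.ext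
    rw [z_pow, show (2 : ZMod 7) ^ 3 = 1 by decide, one_smul]
    rfl
  · intro h
    have := congrArg (fun u : Γ => ((u : GLm) : Matrix (Fin 45) (Fin 45) (ZMod 7)) 0 0) h
    simp only [z_val] at this
    simp at this
    exact absurd this (by decide)

theorem z_central : z ∈ Subgroup.center Γ := by
  refine Subgroup.mem_center_iff.mpr fun u => Subtype.ext (Units.ext ?_)
  simp [z_val]

/-- The central subgroup of order three. -/
def N : Subgroup Γ := Subgroup.zpowers z

instance N_normal : N.Normal := by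
  constructor
  intro n hn u
  have hc : n ∈ Subgroup.center Γ := (Subgroup.zpowers_le.mpr z_central) hn
  have := Subgroup.mem_center_iff.mp hc u
  rwa [this, mul_inv_cancel_right]

theorem scalar_mem {u : Γ} {c : ℕ} (hc : c = 1 ∨ c = 2)
    (hu : ((u : GLm) : Matrix (Fin 45) (Fin 45) (ZMod 7)) = (c : ZMod 7) • 1) : u ∈ N := by
  rcases hc with rfl | rfl
  · have : u = 1 := Subtype.ext (Units.ext (by simpa using hu))
    rw [this]; exact one_mem _
  · have : u = z := Subtype.ext (Units.ext (by rw [hu, z_val]; norm_num))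
    rw [this]; exact Subgroup.mem_zpowers z

theorem ls_mem : ∀ l ∈ ON.ls, (l, 1) ∈ rels ∨ (l, 2) ∈ rels := by decide +kernel

/-- Letters in the quotient by the central subgroup. -/
def qφ : FreeGroup Cfsg.Spor.ON.Gen →* Γ ⧸ N := (QuotientGroup.mk' N).comp φ.rangeRestrict

theorem qφ_surjective : Function.Surjective qφ :=
  (QuotientGroup.mk'_surjective N).comp φ.rangeRestrict_surjective

theorem φ_sq : ∀ a : Cfsg.Spor.ON.Gen, a ≠ .g → φ (FreeGroup.of a) * φ (FreeGroup.of a) = 1 := by
  intro a ha
  apply Units.ext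
  rw [Units.val_mul, φ, FreeGroup.lift_apply_of, Units.val_one]
  show Mx (ON.idx a) * Mx (ON.idx a) = 1
  refine mul_one_of ?_
  cases a <;> first | exact absurd rfl ha | decide +kernel

theorem qφ_inv : ∀ x < 16, qφ (ON.gF (linv 18364758542614016535 x)) = (qφ (ON.gF x))⁻¹ := by
  have node : ∀ a : Cfsg.Spor.ON.Gen, a ≠ .g → qφ (FreeGroup.of a) = (qφ (FreeGroup.of a))⁻¹ := by
    intro a ha
    refine eq_inv_of_mul_eq_one_left ?_
    rw [← map_mul]
    have : φ.rangeRestrict (FreeGroup.of a * FreeGroup.of a) = 1 := Subtype.ext (by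
      rw [MonoidHom.coe_rangeRestrict, map_mul]; exact φ_sq a ha)
    show QuotientGroup.mk' N (φ.rangeRestrict _) = 1
    rw [this, map_one]
  intro x hx
  rw [ON.linv_eq x hx]
  interval_cases x <;> simp only [reduceIte, Nat.reduceEqDiff, ON.gF, map_inv, inv_inv, map_one, inv_one] <;>
    exact node _ (by decide)

theorem qφ_rels : ∀ r ∈ Cfsg.Spor.coxRelators Cfsg.Spor.ON.edges ∪ {r | r ∈ Cfsg.Spor.ON.extra}, qφ r = 1 := by
  refine ON.translation.relator_eq_one qφ qφ_inv fun l hl => ?_
  have e : (l.map fun x => qφ (ON.gF x)).prod =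
      QuotientGroup.mk' N (l.map fun x => φ.rangeRestrict (ON.gF x)).prod := by
    rw [map_list_prod, List.map_map]; rfl
  rw [e, QuotientGroup.mk'_apply, QuotientGroup.eq_one_iff]
  have hv : ((((l.map fun x => φ.rangeRestrict (ON.gF x)).prod : Γ) : GLm)) =
      (l.map fun x => φ (ON.gF x)).prod := by
    rw [Subgroup.val_list_prod, List.map_map]; rfl
  rcases ls_mem l hl with h | h
  · exact scalar_mem (Or.inl rfl) (by rw [hv]; exact φ_word h)
  · exact scalar_mem (Or.inr rfl) (by rw [hv]; exact φ_word h)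

/-- The map from the presented group. -/
def π : G →* Γ ⧸ N := PresentedGroup.toGroup (f := fun a => qφ (FreeGroup.of a)) (by
  intro r hr
  have : FreeGroup.lift (fun a => qφ (FreeGroup.of a)) = qφ := FreeGroup.ext_hom _ _ fun a => by simp
  rw [this]; exact qφ_rels r hr)

theorem π_surjective : Function.Surjective π := by
  intro y
  obtain ⟨w, rfl⟩ := qφ_surjective y
  refine ⟨PresentedGroup.mk _ w, ?_⟩
  have : π.comp (PresentedGroup.mk _) = qφ := FreeGroup.ext_hom _ _ fun a => by
    show π (PresentedGroup.of a) = _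
    exact PresentedGroup.toGroup.of _
  exact congrArg (fun f => f w) this

theorem quot_nontrivial : ¬ ∀ y : Γ ⧸ N, y = 1 := by
  intro h
  have hz : ∀ u : Γ, u ∈ Subgroup.center Γ := fun u =>
    (Subgroup.zpowers_le.mpr z_central) ((QuotientGroup.eq_one_iff (N := N) u).mp (h u))
  have hc := congrArg (fun u : Γ => Matrix.vecMul (vec 1) ((u : GLm) : Matrix (Fin 45) (Fin 45) (ZMod 7)))
    (Subgroup.mem_center_iff.mp (hz (φ.rangeRestrict (ON.gF 2))) (φ.rangeRestrict (ON.gF 1)))
  simp only [Subgroup.coe_mul, Units.val_mul, MonoidHom.coe_rangeRestrict] at hc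
  rw [φ_val 1 (by omega), φ_val 2 (by omega)] at hc
  have h1 : ∀ j, slot j 1 < 7 := fun j => by
    have := slot_basis 1 (by omega) 0 j
    rw [show (1 : ℕ) * 65536 ^ ((0 : Fin 45) : ℕ) = 1 by simp] at this
    rw [this]; split <;> omega
  have e12 := vec_appW [1, 2] (by simp) 1 h1
  have e21 := vec_appW [2, 1] (by simp) 1 h1
  simp only [List.map_cons, List.map_nil, List.prod_cons, List.prod_nil, mul_one] at e12 e21
  rw [← e12, ← e21] at hc
  have hn := noncomm
  simp only [Bool.and_eq_true] at hn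
  have h0 := congrFun hc 0
  simp only [vec, Fin.val_zero, Nat.eq_of_beq_eq_true hn.1, Nat.eq_of_beq_eq_true hn.2] at h0
  exact absurd h0 (by decide)

end CfsgLib.ONRep
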